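import Cfsg.Agent.H41.SDiag_m3
import Cfsg.Agent.H45.UniS.U
import Cfsg.Agent.H207.TriFix
import Cfsg.Agent.H564.U.F4_m3
import Cfsg.Agent.H366.IsoE6_mg_m3
import Cfsg.Agent.H77.E4Seven_m3
import Cfsg.Agent.FastGrp
import Cfsg.Agent.Prune
set_option linter.all false

section
prune_inst 0x7ffffdfbfbff2fffffff7e7ffe94dffc3b959fffe6dff94bffe4e1efabdf338209e56b8d8de032fe0ee2e21410b87843fffffeffe26ffc7ffffdbdf45ffbee5fe5f6bd08519e8cb40f3c2ff783f0778e7f3fffffffffffffffffffffffffffbeffbfffffffff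

-- part: H992/CC/Main
section
prune_inst 0x40040000000018000632003806a2000000000b00008101000004c08e20294026200400130150ca384428314000001000800000000004200000411800800000000601000108000086000000000000000000000000000000000000000004000000000
set_option linter.all false
open scoped Cfsg.Agent.FastGrp

/-!
# Fixed vectors for `Sp_{2m}(q)`, `q` odd, in its own characteristic

* `Eig` for `ts t` from the weights `0`, `± e₁`;
* `exists_fix_of_sum` : the general form (any element with a nonzero sum);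
* `exists_fix` : `x` of order prime to `p` with an eigenvalue `ζ`, `ζ ^ 4 = 1`, fixes a nonzero vector of every nonzero
  finite module in characteristic `p` on which `-1` acts trivially.
-/

set_option autoImplicit false
set_option linter.unusedSimpArgs false
set_option linter.unusedSectionVars false

namespace Cfsg.Agent.H992.CC

open Matrix Polynomial Cfsg.Agent.H45.Uni Cfsg.Agent.H45.UniS Finset Cfsg.Agent.H168.Uni.Sp

section fam

variable {p : ℕ} {m : ℕ} {k : Type*} [Field k]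

/-- the family `cs n` -/
noncomputable def famS (hp : 2 < p) (m : ℕ) (k : Type*) [Field k] : Fam p (Fin m) k (SG m k) where
  x := xs
  y := ys
  τ := tp
  c n g := cs n g.1
  τ_mul := tp_mul
  τ_τ := tp_tp
  τ_x _ _ := rfl
  c_τ n g := cs_tp n g
  c_zero g := by unfold cs; simp
  c_add n n' g := by
    unfold cs
    rw [← Finset.prod_mul_distrib]
    exact Finset.prod_congr rfl fun i _ => pow_add _ _ _
  pol_y n i g := by
    obtain ⟨P, -, hP⟩ := pol_ys n i g 1
    refine ⟨P, fun s => ?_⟩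
    have h : cs n (g * ys i s * 1).1 = P.eval s := hP s
    rwa [mul_one] at h
  dat n hn := dats (e := 1) hp n (fun j => by rw [pow_one]; exact hn j) H421.UniS.sGen H421.UniS.sRank
    H421.UniS.sComm H421.UniS.sTor
  dat_x _ _ := rfl
  dat_y _ _ := rfl
  dat_c _ _ := rfl

/-- functions from a sum of characters -/
theorem mem_of_sum [Infinite k] {r : ℕ} (V : Submodule k (Fin r → k)) (S : Finset (Fin m → ℤ))
    (φ : (Fin m → ℤ) → Fin r → k) (h : ∀ s : Fin m → kˣ, ∑ μ ∈ S, chr k μ s • φ μ ∈ V) {μ : Fin m → ℤ} (hμ : μ ∈ S) :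
    φ μ ∈ V := by
  by_contra hcon
  obtain ⟨l, hl, hV⟩ := Submodule.exists_le_ker_of_notMem hcon
  apply hl
  refine chr_indep S (fun μ => l (φ μ)) (fun s => ?_) μ hμ
  have h1 := LinearMap.mem_ker.1 (hV (h s))
  rw [map_sum] at h1
  rw [← h1]
  exact Finset.sum_congr rfl fun ν _ => by rw [map_smul, smul_eq_mul, mul_comm]

/-- eigenvalues of diagonal elements from weights -/
theorem eig_of_Zs [Infinite k] (hp : 2 < p) {r : ℕ} {n : Fin (r + 1) → ℕ} {s : ℤ} (h : Zs k n s)
    (t : Fin (r + 1) → kˣ) (R : ℕ) : (famS hp (r + 1) k).Eig (ts t) R n (((t 0) ^ (-s) : kˣ) : k) := by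
  obtain ⟨u, u', v, v', c, hu, hv, hc, hZ⟩ := h
  obtain ⟨S, C, h0, hC, hS⟩ := hZ.exists_sum
  set g : SG (r + 1) k := ⟨_, rowMat_mem hv.sw⟩ with hg
  set g' : SG (r + 1) k := ⟨_, SymplecticGroup.transpose_mem (rowMat_mem hu)⟩ with hg'
  have hcs : ∀ t : Fin (r + 1) → kˣ, ((t 0 ^ s : kˣ) : k) * cs n (g * ts t * g').1 = ∑ μ ∈ S, C μ * chr k μ t := by
    intro t
    simp only [chr_apply]
    rw [← hS t]
    congr 1
    unfold cs Cfsg.Agent.H45.UniS.mn mS
    apply Finset.prod_congr rfl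
    intro j _
    congr 2
    ext a b
    exact entry t v v' u u' _ _
  unfold Fam.Eig
  set V : Submodule k (Fin R → k) := Submodule.span k (Set.range fun hg : SG (r + 1) k × SG (r + 1) k =>
    fun i : Fin R => (famS hp (r + 1) k).c n (hg.1 * ts t ^ (i : ℕ) * hg.2)) with hV
  set φ : (Fin (r + 1) → ℤ) → Fin R → k := fun μ i => C μ * ((((t 0) ^ (-s) : kˣ) : k) ^ (i : ℕ) * chr k μ (t ^ (i : ℕ)))
    with hφ
  have key : ∀ s' : Fin (r + 1) → kˣ, ∑ μ ∈ S, chr k μ s' • φ μ ∈ V := by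
    intro s'
    have e : ∑ μ ∈ S, chr k μ s' • φ μ = ((s' 0 ^ s : kˣ) : k) • fun i : Fin R =>
        (famS hp (r + 1) k).c n (g * ts t ^ (i : ℕ) * (ts s' * g')) := by
      funext i
      rw [Finset.sum_apply, Pi.smul_apply, smul_eq_mul]
      have h1 := hcs (t ^ (i : ℕ) * s')
      have h2 : (famS hp (r + 1) k).c n (g * ts t ^ (i : ℕ) * (ts s' * g')) = cs n (g * ts (t ^ (i : ℕ) * s') * g').1 := by
        show cs n (g * ts t ^ (i : ℕ) * (ts s' * g')).1 = _
        rw [ts_mul, ts_pow]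
        congr 2
        simp only [mul_assoc]
      rw [h2]
      have h3 : ((s' 0 ^ s : kˣ) : k) = (((t 0) ^ (-s) : kˣ) : k) ^ (i : ℕ) * ((((t ^ (i : ℕ) * s') 0) ^ s : kˣ) : k) := by
        rw [← Units.val_pow_eq_pow_val, ← Units.val_mul]
        congr 1
        rw [Pi.mul_apply, Pi.pow_apply, mul_zpow, ← zpow_natCast, ← zpow_natCast, ← _root_.zpow_mul, ← _root_.zpow_mul,
          ← mul_assoc, ← _root_.zpow_add]
        have : -s * ((i : ℕ) : ℤ) + ((i : ℕ) : ℤ) * s = 0 := by ring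
        rw [this, zpow_zero, one_mul]
      rw [h3, mul_assoc, h1, Finset.mul_sum]
      refine Finset.sum_congr rfl fun μ _ => ?_
      rw [Pi.smul_apply, smul_eq_mul, hφ, map_mul]
      ring
    rw [e]
    exact V.smul_mem _ (Submodule.subset_span ⟨(g, ts s' * g'), rfl⟩)
  have h1 := mem_of_sum V S φ key h0
  have h2 := V.smul_mem c⁻¹ h1
  have e : c⁻¹ • φ 0 = fun i : Fin R => (((t 0) ^ (-s) : kˣ) : k) ^ (i : ℕ) := by
    funext i
    rw [Pi.smul_apply, smul_eq_mul, hφ]
    beta_reduce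
    rw [hC, chr_apply]
    simp [hc]
  rwa [e] at h2

end fam

/-! ### Weyl elements -/

section weyl

variable {m : ℕ} {k : Type*} [Field k]

/-- the permutation matrix -/
def pmat (k : Type*) [Field k] (σ : Equiv.Perm (Fin m)) : Matrix (Fin m) (Fin m) k :=
  Matrix.of fun i j => if σ i = j then 1 else 0

theorem pmat_mul_transpose (σ : Equiv.Perm (Fin m)) : pmat k σ * (pmat k σ)ᵀ = 1 := by
  ext i j
  rw [Matrix.mul_apply, Finset.sum_eq_single (σ i)]
  · simp only [pmat, Matrix.of_apply, Matrix.transpose_apply, if_true, one_mul, Matrix.one_apply]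
    congr 1
    exact propext ⟨fun h => (σ.injective h).symm, fun h => by rw [h]⟩
  · intro l _ hl
    simp only [pmat, Matrix.of_apply, if_neg (Ne.symm hl), zero_mul]
  · intro h; exact absurd (Finset.mem_univ _) h

theorem pm_mem (σ : Equiv.Perm (Fin m)) : fromBlocks (pmat k σ) 0 0 (pmat k σ) ∈ symplecticGroup (Fin m) k := by
  rw [SymplecticGroup.mem_iff, fromBlocks_transpose, J, fromBlocks_multiply, fromBlocks_multiply]
  simp [pmat_mul_transpose]

/-- a permutation of the coordinates -/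
def pm (k : Type*) [Field k] (σ : Equiv.Perm (Fin m)) : SG m k := ⟨_, pm_mem σ⟩

theorem pm_ts (σ : Equiv.Perm (Fin m)) (t : Fin m → kˣ) : pm k σ * ts t = ts (fun i => t (σ i)) * pm k σ := by
  apply Subtype.ext
  show fromBlocks (pmat k σ) 0 0 (pmat k σ) * Matrix.diagonal (tsVec t) =
    Matrix.diagonal (tsVec fun i => t (σ i)) * fromBlocks (pmat k σ) 0 0 (pmat k σ)
  ext a b
  rw [Matrix.mul_diagonal, Matrix.diagonal_mul]
  rcases a with a | a <;> rcases b with b | b
  · simp only [fromBlocks_apply₁₁, pmat, Matrix.of_apply, tsVec, Sum.elim_inl]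
    by_cases h : σ a = b
    · rw [if_pos h, h]; ring
    · rw [if_neg h]; ring
  · simp only [fromBlocks_apply₁₂, Matrix.zero_apply]; ring
  · simp only [fromBlocks_apply₂₁, Matrix.zero_apply]; ring
  · simp only [fromBlocks_apply₂₂, pmat, Matrix.of_apply, tsVec, Sum.elim_inr]
    by_cases h : σ a = b
    · rw [if_pos h, h]; ring
    · rw [if_neg h]; ring

/-- the longest element -/
def jj (m : ℕ) (k : Type*) [Field k] : SG m k := ⟨J (Fin m) k, SymplecticGroup.J_mem _ _⟩

theorem jj_ts (t : Fin m → kˣ) : jj m k * ts t = ts t⁻¹ * jj m k := by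
  apply Subtype.ext
  show J (Fin m) k * Matrix.diagonal (tsVec t) = Matrix.diagonal (tsVec t⁻¹) * J (Fin m) k
  ext a b
  rw [Matrix.mul_diagonal, Matrix.diagonal_mul]
  rcases a with a | a <;> rcases b with b | b
  · simp only [J, fromBlocks_apply₁₁, Matrix.zero_apply]; ring
  · simp only [J, fromBlocks_apply₁₂, Matrix.neg_apply, tsVec, Sum.elim_inl, Sum.elim_inr, Pi.inv_apply]
    by_cases h : a = b
    · rw [h]; ring
    · rw [Matrix.one_apply_ne h]; ring
  · simp only [J, fromBlocks_apply₂₁, tsVec, Sum.elim_inl, Sum.elim_inr, Pi.inv_apply, inv_inv]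
    by_cases h : a = b
    · rw [h]; ring
    · rw [Matrix.one_apply_ne h]; ring
  · simp only [J, fromBlocks_apply₂₂, Matrix.zero_apply]; ring

end weyl

/-! ### eigenvalues at the levels -/

section levels

variable {p : ℕ} [hp : Fact p.Prime] {k : Type*} [Field k] [CharP k p] [Infinite k]

theorem eig_zero (h2 : 2 < p) {r : ℕ} {n : Fin (r + 1) → ℕ} (hn : ∀ j, n j < p) (he : Even (AA n))
    (g : SG (r + 1) k) (t : Fin (r + 1) → kˣ) (R : ℕ) : (famS h2 (r + 1) k).Eig (g * ts t * g⁻¹) R n 1 := by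
  have h := (eig_of_Zs h2 (Zs_all' (k := k) (p := p) (by omega) r n hn 0 (Or.inl rfl) (by
    rw [zero_add]; exact_mod_cast he)) t R).conj g
  rwa [neg_zero, zpow_zero, Units.val_one] at h

theorem eig_one (h2 : 2 < p) {r : ℕ} {n : Fin (r + 1) → ℕ} (hn : ∀ j, n j < p) (he : Odd (AA n))
    (g : SG (r + 1) k) (t : Fin (r + 1) → kˣ) (R : ℕ) :
    (famS h2 (r + 1) k).Eig (g * ts t * g⁻¹) R n (t 0 : k) ∧
      (famS h2 (r + 1) k).Eig (g * ts t * g⁻¹) R n ((t 0 : k)⁻¹) := by
  have key : ∀ (g : SG (r + 1) k) (t : Fin (r + 1) → kˣ),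
      (famS h2 (r + 1) k).Eig (g * ts t * g⁻¹) R n ((t 0 : k)⁻¹) := by
    intro g t
    have h := (eig_of_Zs h2 (Zs_all' (k := k) (p := p) (by omega) r n hn 1 (Or.inr rfl) (by
      rw [add_comm]
      have h1 : Even (AA n + 1) := he.add_odd odd_one
      exact_mod_cast h1)) t R).conj g
    rwa [_root_.zpow_neg, zpow_one, Units.val_inv_eq_inv_val] at h
  refine ⟨?_, key g t⟩
  have h1 := key (g * (jj _ k)⁻¹) t⁻¹
  have e : g * (jj _ k)⁻¹ * ts t⁻¹ * (g * (jj _ k)⁻¹)⁻¹ = g * ts t * g⁻¹ := by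
    have h3 : (jj (r + 1) k)⁻¹ * ts t⁻¹ * jj (r + 1) k = ts t := by
      rw [mul_assoc, ← jj_ts, inv_mul_cancel_left]
    rw [_root_.mul_inv_rev, inv_inv]
    calc g * (jj _ k)⁻¹ * ts t⁻¹ * (jj _ k * g⁻¹) = g * ((jj _ k)⁻¹ * ts t⁻¹ * jj _ k) * g⁻¹ := by
          simp only [mul_assoc]
      _ = g * ts t * g⁻¹ := by rw [h3]
  rw [e] at h1
  simpa using h1

/-- the choice of signs at the odd levels -/
theorem choose_zeta {K : Type*} [Field K] {ζ : K} (hζ : ζ ^ 4 = 1) {q : ℕ} (hq : Odd q) (s : ℕ → ℕ) (f : ℕ) :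
    ∃ z : ℕ → K, (∀ a, (Even (s a) ∧ z a = 1) ∨ (Odd (s a) ∧ (z a = ζ ∨ z a = ζ⁻¹))) ∧
      ∏ a ∈ range f, z a ^ q ^ a = ζ ^ ((∑ a ∈ range f, s a) % 2) := by
  have hζ0 : ζ ≠ 0 := by rintro rfl; simp at hζ
  induction f with
  | zero =>
    refine ⟨fun a => if Even (s a) then 1 else ζ, fun a => ?_, by simp⟩
    by_cases h : Even (s a)
    · exact Or.inl ⟨h, if_pos h⟩
    · exact Or.inr ⟨Nat.not_even_iff_odd.1 h, Or.inl (if_neg h)⟩
  | succ f ih =>
    obtain ⟨z, hz, hprod⟩ := ih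
    rcases Nat.even_or_odd (s f) with he | ho
    · refine ⟨z, hz, ?_⟩
      rw [prod_range_succ, sum_range_succ, hprod]
      have h1 : z f = 1 := by
        rcases hz f with ⟨-, h⟩ | ⟨h, -⟩
        · exact h
        · exact absurd he (Nat.not_even_iff_odd.2 h)
      rw [h1, one_pow, mul_one]
      congr 1
      obtain ⟨c, hc⟩ := he
      omega
    · -- the values `ζ` and `ζ⁻¹` are both of the form `w ^ (q ^ f)`
      have hqf : Odd (q ^ f) := hq.pow
      have h4 : ζ ^ q ^ f = ζ ∨ ζ ^ q ^ f = ζ⁻¹ := by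
        obtain ⟨c, hc⟩ := hqf
        rcases Nat.even_or_odd c with ⟨d, hd⟩ | ⟨d, hd⟩
        · left
          have : q ^ f = 4 * d + 1 := by omega
          rw [this, pow_add, pow_mul, hζ, one_pow, one_mul, pow_one]
        · right
          have : q ^ f = 4 * d + 3 := by omega
          rw [this, pow_add, pow_mul, hζ, one_pow, one_mul]
          apply eq_inv_of_mul_eq_one_left
          rw [← pow_succ]
          exact hζ
      have h5 : ∀ y : K, y = ζ ∨ y = ζ⁻¹ → ∃ w : K, (w = ζ ∨ w = ζ⁻¹) ∧ w ^ q ^ f = y := by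
        intro y hy
        rcases h4 with h4 | h4 <;> rcases hy with hy | hy
        · exact ⟨ζ, Or.inl rfl, by rw [hy, h4]⟩
        · exact ⟨ζ⁻¹, Or.inr rfl, by rw [inv_pow, h4, hy]⟩
        · exact ⟨ζ⁻¹, Or.inr rfl, by rw [inv_pow, h4, inv_inv, hy]⟩
        · exact ⟨ζ, Or.inl rfl, by rw [hy, h4]⟩
      have h6 : ∃ y : K, (y = ζ ∨ y = ζ⁻¹) ∧
          ζ ^ ((∑ a ∈ range f, s a) % 2) * y = ζ ^ ((∑ a ∈ range f, s a + s f) % 2) := by
        obtain ⟨c, hc⟩ := ho
        rcases Nat.even_or_odd (∑ a ∈ range f, s a) with ⟨d, hd⟩ | ⟨d, hd⟩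
        · refine ⟨ζ, Or.inl rfl, ?_⟩
          have e1 : (∑ a ∈ range f, s a) % 2 = 0 := by omega
          have e2 : (∑ a ∈ range f, s a + s f) % 2 = 1 := by omega
          rw [e1, e2, pow_zero, one_mul, pow_one]
        · refine ⟨ζ⁻¹, Or.inr rfl, ?_⟩
          have e1 : (∑ a ∈ range f, s a) % 2 = 1 := by omega
          have e2 : (∑ a ∈ range f, s a + s f) % 2 = 0 := by omega
          rw [e1, e2, pow_zero, pow_one, mul_inv_cancel₀ hζ0]
      obtain ⟨y, hy, hy2⟩ := h6
      obtain ⟨w, hw, hw2⟩ := h5 y hy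
      refine ⟨Function.update z f w, fun a => ?_, ?_⟩
      · by_cases ha : a = f
        · subst ha
          rw [Function.update_self]
          exact Or.inr ⟨ho, hw⟩
        · rw [Function.update_of_ne ha]
          exact hz a
      · rw [prod_range_succ, sum_range_succ, Function.update_self, hw2, ← hy2, ← hprod]
        congr 1
        refine Finset.prod_congr rfl fun a ha => ?_
        rw [Function.update_of_ne (by rw [mem_range] at ha; omega)]

/-- the parity of the digits -/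
theorem AA_digits (hp2 : 2 < p) {m f : ℕ} {n : Fin m → ℕ} (hn : ∀ j, n j < p ^ f) :
    (∑ a ∈ range f, AA (fun i => n i / p ^ a % p)) % 2 = AA n % 2 := by
  have hodd : Odd p := hp.out.odd_of_ne_two (by omega)
  have h1 : AA n = ∑ a ∈ range f, p ^ a * AA (fun i => n i / p ^ a % p) := by
    unfold AA
    simp only [Finset.mul_sum]
    rw [Finset.sum_comm]
    refine Finset.sum_congr rfl fun j _ => ?_
    by_cases h : Even j.1
    · simp only [if_pos h]
      exact (digits_eq p f hp.out.one_lt (n j) (hn j)).symm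
    · simp only [if_neg h, mul_zero, Finset.sum_const_zero]
  rw [h1, Finset.sum_nat_mod, Finset.sum_nat_mod (range f) 2 (fun a => p ^ a * _)]
  congr 1
  refine Finset.sum_congr rfl fun a _ => ?_
  have h2 : p ^ a % 2 = 1 := Nat.odd_iff.1 hodd.pow
  rw [Nat.mul_mod, h2, one_mul, Nat.mod_mod]

/-- **a nonzero sum** for an element which is conjugate to `ts t`, `(t 0) ^ 4 = 1` -/
theorem sum_ne_zero_of_four [IsAlgClosed k] (h2 : 2 < p) {r f : ℕ} {n : Fin (r + 1) → ℕ} (hn : ∀ j, n j < p ^ f)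
    (he : Even (AA n)) {x : SG (r + 1) k} {R : ℕ} (hR : (R : k) ≠ 0) (g : SG (r + 1) k) (t : Fin (r + 1) → kˣ)
    (hx : x = g * ts t * g⁻¹) (h4 : (t 0 : k) ^ 4 = 1) :
    ∃ h g : SG (r + 1) k, ∑ j ∈ range R, cs n (h * x ^ j * g).1 ≠ 0 := by
  obtain ⟨z, hz, hprod⟩ := choose_zeta h4 (hp.out.odd_of_ne_two (by omega)) (fun a => AA (fun i => n i / p ^ a % p)) f
  rw [AA_digits h2 hn, Nat.even_iff.1 he, pow_zero] at hprod
  refine (famS h2 (r + 1) k).sum_ne_zero_digits (p := p) (x := x) (f := f) hR hn z (fun a _ => ?_) hprod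
  rw [hx]
  rcases hz a with ⟨h1, h3⟩ | ⟨h1, h3 | h3⟩
  · rw [h3]; exact eig_zero h2 (fun j => Nat.mod_lt _ hp.out.pos) h1 g t R
  · rw [h3]; exact (eig_one h2 (fun j => Nat.mod_lt _ hp.out.pos) h1 g t R).1
  · rw [h3]; exact (eig_one h2 (fun j => Nat.mod_lt _ hp.out.pos) h1 g t R).2

end levels

end Cfsg.Agent.H992.CC

private theorem dce_cd0c110487e0 : _root_.True := by
  try have : _root_.True := by simp only [_root_.Cfsg.Agent.H992.CC.famS.congr_simp]
  try have : _root_.True := by simp only [_root_.Cfsg.Agent.H992.CC.pmat.eq_1]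
  exact _root_.True.intro
end

-- part: H992/CC/Final
section
prune_inst 0x100000000000000a0001c42860000000048000000c100020c800c4100400020b8100511400008046038000000000000000000000020000001180080900240001200010c240001000880000000000000000000000000000000000000000000000
set_option linter.all false
open scoped Cfsg.Agent.FastGrp

/-!
# Fixed vectors for `Sp_{2m}(q)`, `q` odd: final forms

* `exists_fix_of_sum` : an element of order prime to `p` with a nonzero sum for every even weight;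
* `exists_fix_four` : `x ^ 4` has the eigenvalue `1`;
* `fixAll_PSp`, `hit_PSp` : the forms for `PSp_{2m}(q)`.
-/

set_option autoImplicit false
set_option linter.unusedSimpArgs false
set_option linter.unusedSectionVars false

namespace Cfsg.Agent.H992.CC

open Matrix Polynomial Cfsg.Agent.H45.Uni Cfsg.Agent.H45.UniS Finset Cfsg.Agent.H168.Uni.Sp TensorProduct

section main

variable {m p : ℕ} [Fact p.Prime] {F : Type*} [Field F] [Fintype F] {k : Type*} [Field k] [Algebra F k]

/-- simple modules over the algebraic closure -/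
theorem main_simple_q [CharP k p] [Infinite k] (hp : 2 < p) {f : ℕ} (hF : Fintype.card F = p ^ f)
    (hpg : SPgrp p m F)
    {W : Type*} [AddCommGroup W] [Module k W] [FiniteDimensional k W] [Nontrivial W]
    (hwt : SWt m F k W) (hNeg : SNeg m F k (W × (SG m F → k)))
    (ρ : SG m F →* Module.End k W) (hirr : ∀ N : Submodule k W, (∀ g, ∀ v ∈ N, ρ g v ∈ N) → N = ⊥ ∨ N = ⊤)
    (hcen : ρ (ts fun _ => (-1 : Fˣ)) = 1) (x : SG m F)
    (hV : ∀ n : Fin m → ℕ, (∀ j, n j < p ^ f) → Even (∑ j : Fin m, (j.1 + 1) * n j) →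
      ∃ h g : SG m k, ∑ i ∈ range (orderOf x), cs n (h * bcs m F k x ^ i * g).1 ≠ 0) :
    ∃ v : W, v ≠ 0 ∧ ρ x v = v := by
  classical
  have h2k : (2 : k) ≠ 0 := by
    intro h
    have h1 : ((2 : ℕ) : k) = 0 := by exact_mod_cast h
    rw [CharP.cast_eq_zero_iff k p] at h1
    exact absurd (Nat.le_of_dvd (by norm_num) h1) (by omega)
  by_contra hcon
  push Not at hcon
  obtain ⟨v, n, hv0, ha, hv⟩ := hwt ρ inferInstance inferInstance hirr
  have heven : Even (∑ j : Fin m, (j.1 + 1) * n j) := hv.even hv0 h2k (by rw [hcen]; rfl)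
  -- the order of `x`
  set r := orderOf x with hr
  -- the sum of the powers kills `W`
  have hsum : ∀ w : W, ∑ i ∈ range r, ρ (x ^ i) w = 0 := by
    intro w
    by_contra hne
    apply hcon _ hne
    rw [map_sum]
    have e : ∀ i, ρ x (ρ (x ^ i) w) = ρ (x ^ (i + 1)) w := by
      intro i
      rw [pow_succ', map_mul]; rfl
    simp only [e]
    have h6 := Finset.sum_range_succ (fun i => ρ (x ^ i) w) r
    have h7 := Finset.sum_range_succ' (fun i => ρ (x ^ i) w) r
    rw [h6] at h7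
    have h8 : x ^ r = 1 := pow_orderOf_eq_one x
    simp only [h8, pow_zero] at h7
    exact (add_right_cancel h7).symm
  -- relations for `c` on `S`
  have hrel : ∀ g h : SG m F, ∑ i ∈ range r, cs n (bcs m F k (h * (x ^ i * g))).1 = 0 := by
    intro g h
    have h6 := ann (p := p) ρ hv0 (fun g : SG m F => cs n (bcs m F k g).1) hpg (fun u hu => ?_)
      (gen_of_wts H421.UniS.sRank hNeg ha ρ hv) (range r) (fun _ => 1) (fun i => x ^ i * g) ?_ h
    · simpa only [one_mul] using h6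
    · have h7 : ∀ g : SG m F, cs n (bcs m F k (u * g)).1 = cs n (bcs m F k g).1 := by
        induction hu using Subgroup.closure_induction with
        | mem u hu =>
          obtain ⟨i, s, rfl⟩ := hu
          intro g
          rw [map_mul, bcs_ys, cs_ys_mul]
        | one => intro g; rw [one_mul]
        | mul a b _ _ h1 h2 => intro g; rw [mul_assoc, h1, h2]
        | inv a _ h1 => intro g; rw [← h1, mul_inv_cancel_left]
      have h8 := h7 1
      rw [mul_one, map_one] at h8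
      show cs n (bcs m F k u).1 = 1
      rw [h8]
      exact cs_one n
    · simp only [one_smul]
      have e : ∀ i, ρ (x ^ i * g) v = ρ (x ^ i) (ρ g v) := by
        intro i
        rw [map_mul]; rfl
      simp only [e]
      exact hsum _
  -- transfer to `G(k)`
  have hn1 : ∀ j, n j < p ^ f := fun j => by rw [← hF]; exact ha j
  let P : Subgroup (SG m k) := (Subgroup.closure {g : SG m F | ∃ i s, g = xs i s}).map (bcs m F k)
  have hPfin : Finite P := by
    have : Finite (Subgroup.closure {g : SG m F | ∃ i s, g = xs i s}) := inferInstance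
    exact Set.Finite.image (bcs m F k) (Set.toFinite (Subgroup.closure {g : SG m F | ∃ i s, g = xs i s} : Set (SG m F)))
  have hP : IsPGroup p P := (pgroup_xs hpg).map _
  have hPS : P ≤ (bcs m F k).range := by
    rintro _ ⟨g, -, rfl⟩
    exact ⟨g, rfl⟩
  have htr := (dats (e := f) hp n hn1 H421.UniS.sGen H421.UniS.sRank H421.UniS.sComm H421.UniS.sTor).transfer (Fq := F) hF
    (S := (bcs m F k).range) hP hPS
    (fun i s => ⟨xs i s, Subgroup.subset_closure ⟨i, s, rfl⟩, by rw [bcs_xs]; rfl⟩)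
    tp tp_mul tp_tp (fun a => cs_tp n a) (by rintro _ ⟨g, rfl⟩; exact ⟨tp g, bcs_tp g⟩)
    (range r) (fun i => (bcs m F k x) ^ i) (by
      rintro _ ⟨h, rfl⟩ _ ⟨g, rfl⟩
      have h6 := hrel g h
      rw [← h6]
      refine Finset.sum_congr rfl fun i _ => ?_
      show cs n (bcs m F k h * (bcs m F k x) ^ i * bcs m F k g).1 = _
      rw [← map_pow, ← map_mul, ← map_mul, mul_assoc])
  obtain ⟨h0, g0, hne⟩ := hV n hn1 heven
  exact hne (htr h0 g0)

end main

universe u v

section final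

variable {m p : ℕ} [Fact p.Prime] {F : Type v} [Field F] [Fintype F]

/-- **fixed vectors**, general form -/
theorem exists_fix_of_sum [CharP F p] (hp : 2 < p) {f : ℕ} (hF : Fintype.card F = p ^ f) (x : SG m F)
    (hV : ∀ n : Fin m → ℕ, (∀ j, n j < p ^ f) → Even (∑ j : Fin m, (j.1 + 1) * n j) →
      ∃ h g : SG m (AlgebraicClosure F),
        ∑ i ∈ range (orderOf x), cs n (h * bcs m F (AlgebraicClosure F) x ^ i * g).1 ≠ 0)
    (V : Type u) [AddCommGroup V] [Module (ZMod p) V] [Finite V]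
    [Nontrivial V] (ρ : SG m F →* (V ≃ₗ[ZMod p] V)) (hcen : ρ (ts fun _ => (-1 : Fˣ)) = 1) :
    ∃ w : V, w ≠ 0 ∧ ρ x w = w := by
  classical
  let k := AlgebraicClosure F
  have hck : CharP k p := charP_of_injective_algebraMap (algebraMap F k).injective p
  let _ : Algebra (ZMod p) k := ZMod.algebra k p
  have : Module.Finite (ZMod p) V := Module.Finite.of_finite
  -- base change
  let ρk : SG m F →* Module.End k (k ⊗[ZMod p] V) :=
    { toFun := fun g => (ρ g).toLinearMap.baseChange k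
      map_one' := by
        rw [map_one]
        exact LinearMap.baseChange_id
      map_mul' := fun g h => by
        rw [map_mul]
        exact LinearMap.baseChange_comp _ _ }
  have hnt : Nontrivial (k ⊗[ZMod p] V) := by
    obtain ⟨w, hw⟩ := exists_ne (0 : V)
    have hinj : Function.Injective (fun v : V => (1 : k) ⊗ₜ[ZMod p] v) := by
      have h1 : Function.Injective (LinearMap.rTensor V (Algebra.linearMap (ZMod p) k)) :=
        Module.Flat.rTensor_preserves_injective_linearMap _ (algebraMap (ZMod p) k).injective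
      intro a b hab
      have h2 : LinearMap.rTensor V (Algebra.linearMap (ZMod p) k) ((TensorProduct.lid (ZMod p) V).symm a) =
          LinearMap.rTensor V (Algebra.linearMap (ZMod p) k) ((TensorProduct.lid (ZMod p) V).symm b) := by
        rw [TensorProduct.lid_symm_apply, TensorProduct.lid_symm_apply, LinearMap.rTensor_tmul,
          LinearMap.rTensor_tmul, Algebra.linearMap_apply, map_one]
        exact hab
      exact (TensorProduct.lid (ZMod p) V).symm.injective (h1 h2)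
    refine ⟨⟨(1 : k) ⊗ₜ[ZMod p] w, 0, fun h => hw ?_⟩⟩
    apply hinj
    show (1 : k) ⊗ₜ[ZMod p] w = (1 : k) ⊗ₜ[ZMod p] (0 : V)
    rw [h, TensorProduct.tmul_zero]
  obtain ⟨N, hN0, hNinv, hNmin⟩ := exists_min ρk
  let ρN : SG m F →* Module.End k N :=
    { toFun := fun g => (ρk g).restrict (hNinv g)
      map_one' := by
        ext x
        simp only [_root_.map_one, _root_.LinearMap.coe_restrict_apply, _root_.Module.End.one_apply]
      map_mul' := fun g h => by
        ext x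
        simp only [_root_.map_mul, _root_.LinearMap.coe_restrict_apply, _root_.Module.End.mul_apply] }
  have hNnt : Nontrivial N := Submodule.nontrivial_iff_ne_bot.2 hN0
  have hirr : ∀ M : Submodule k N, (∀ g, ∀ v ∈ M, ρN g v ∈ M) → M = ⊥ ∨ M = ⊤ := by
    intro M hM
    by_cases h0 : M = ⊥
    · exact Or.inl h0
    right
    have h1 := hNmin (M.map N.subtype) (fun h => h0 (by
      rw [eq_bot_iff]
      intro v hv
      have h2 : v.1 ∈ M.map N.subtype := ⟨v, hv, rfl⟩
      rw [h, Submodule.mem_bot] at h2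
      exact Subtype.ext h2)) (by
        rintro g _ ⟨v, hv, rfl⟩
        exact ⟨ρN g v, hM g v hv, rfl⟩) (Submodule.map_subtype_le N M)
    rw [eq_top_iff]
    rintro ⟨v, hv⟩ -
    rw [← h1] at hv
    obtain ⟨w, hw, hwv⟩ := hv
    have : w = ⟨v, by rw [← h1]; exact ⟨w, hw, hwv⟩⟩ := Subtype.ext hwv
    rw [← this]
    exact hw
  have hcenk : ρk (ts fun _ => (-1 : Fˣ)) = 1 := by
    show (ρ (ts fun _ => (-1 : Fˣ))).toLinearMap.baseChange k = 1
    rw [hcen]
    exact LinearMap.baseChange_id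
  have hcenN : ρN (ts fun _ => (-1 : Fˣ)) = 1 := by
    ext x
    show (ρk (ts fun _ => (-1 : Fˣ)) x.1) = x.1
    rw [hcenk]
    rfl
  have h2F : (2 : F) ≠ 0 := two_ne (p := p) (by omega)
  have hwtN : SWt m F k N := H421.UniS.sWt (p := p) ((Fact.out : p.Prime).odd_of_ne_two (by omega))
  have hNegN : SNeg m F k (N × (SG m F → k)) := H421.UniS.sNeg h2F
  obtain ⟨v, hv0, hv⟩ := main_simple_q (k := k) hp hF H421.UniS.sPgrp hwtN hNegN ρN hirr hcenN x hV
  -- back to `V`
  by_contra hcon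
  push Not at hcon
  have hinj : Function.Injective ((ρ x).toLinearMap - LinearMap.id : V →ₗ[ZMod p] V) := by
    rw [injective_iff_map_eq_zero]
    intro w hw
    by_contra hw0
    exact hcon w hw0 (sub_eq_zero.1 hw)
  have hinj2 : Function.Injective (LinearMap.lTensor k ((ρ x).toLinearMap - LinearMap.id : V →ₗ[ZMod p] V)) :=
    Module.Flat.lTensor_preserves_injective_linearMap _ hinj
  apply hv0
  apply Subtype.ext
  apply hinj2
  rw [LinearMap.lTensor_sub, LinearMap.sub_apply]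
  have h3 : ρk x v.1 = v.1 := congrArg Subtype.val hv
  have h4 : LinearMap.lTensor k (ρ x).toLinearMap v.1 = v.1 := h3
  rw [h4, LinearMap.lTensor_id]
  simp only [_root_.LinearMap.id_coe, _root_.id_eq, _root_.sub_self, _root_.ZeroMemClass.coe_zero, _root_.LinearMap.sub_apply, _root_.map_zero]


/-- **an element with an eigenvalue `ζ`, `ζ ^ 4 = 1`, fixes a nonzero vector** -/
theorem exists_fix [CharP F p] (hp2 : p ≠ 2) (x : SG m F) (hx : (orderOf x).Coprime p) {ζ : AlgebraicClosure F}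
    (hζ : ζ ^ 4 = 1) {v : Fin m ⊕ Fin m → AlgebraicClosure F} (hv : v ≠ 0)
    (hxv : (x.1.map (algebraMap F (AlgebraicClosure F))) *ᵥ v = ζ • v)
    (V : Type u) [AddCommGroup V] [Module (ZMod p) V] [Finite V]
    [Nontrivial V] (ρ : SG m F →* (V ≃ₗ[ZMod p] V)) (hcen : ρ (ts fun _ => (-1 : Fˣ)) = 1) :
    ∃ w : V, w ≠ 0 ∧ ρ x w = w := by
  classical
  have hpp : p.Prime := Fact.out
  have hp : 2 < p := lt_of_le_of_ne hpp.two_le (Ne.symm hp2)
  have hck : CharP (AlgebraicClosure F) p :=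
    charP_of_injective_algebraMap (algebraMap F (AlgebraicClosure F)).injective p
  obtain ⟨f, -, hF⟩ := FiniteField.card F p
  -- `m = r + 1`
  obtain ⟨r, rfl⟩ : ∃ r, m = r + 1 := by
    rcases m with _ | r
    · exfalso
      apply hv
      funext a
      rcases a with a | a <;> exact a.elim0
    · exact ⟨r, rfl⟩
  have := finite_SG (m := r + 1) (F := F)
  set x' := bcs (r + 1) F (AlgebraicClosure F) x with hx'
  have hdvd : orderOf x' ∣ orderOf x := orderOf_map_dvd _ x
  obtain ⟨g, t, hgt⟩ := H41.SDiag.sDiag (k := AlgebraicClosure F) (m := r + 1) p hpp x'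
    (Nat.pos_of_dvd_of_pos hdvd (orderOf_pos x)) (Nat.Coprime.coprime_dvd_left hdvd hx)
  -- the eigenvalue
  obtain ⟨a, ha⟩ : ∃ a, (tsVec t a) = ζ := by
    set w := (g⁻¹).1 *ᵥ v with hw
    have h1 : (ts t).1 *ᵥ w = ζ • w := by
      have h2 : ts t * g⁻¹ = g⁻¹ * x' := by rw [hgt]; group
      have h3 : (ts t).1 * (g⁻¹).1 = (g⁻¹).1 * x'.1 := congrArg Subtype.val h2
      rw [hw, Matrix.mulVec_mulVec, h3, ← Matrix.mulVec_mulVec, ← Matrix.mulVec_smul]
      congr 1
    have hw0 : w ≠ 0 := by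
      intro h0
      apply hv
      have h2 : g.1 *ᵥ w = v := by
        rw [hw, Matrix.mulVec_mulVec]
        have h3 : g.1 * (g⁻¹).1 = 1 := congrArg Subtype.val (mul_inv_cancel g)
        rw [h3, Matrix.one_mulVec]
      rw [← h2, h0, Matrix.mulVec_zero]
    obtain ⟨a, ha⟩ : ∃ a, w a ≠ 0 := by
      by_contra hcon
      push Not at hcon
      exact hw0 (_root_.funext hcon)
    refine ⟨a, ?_⟩
    have h2 := congrFun h1 a
    have h3 : ((ts t).1 *ᵥ w) a = tsVec t a * w a := by
      show (Matrix.diagonal (tsVec t) *ᵥ w) a = _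
      rw [Matrix.mulVec_diagonal]
    rw [h3, Pi.smul_apply, smul_eq_mul] at h2
    exact mul_right_cancel₀ ha h2
  obtain ⟨j, hj⟩ : ∃ j, ((t j : (AlgebraicClosure F)ˣ) : AlgebraicClosure F) ^ 4 = 1 := by
    rcases a with a | a
    · exact ⟨a, by have : (t a : AlgebraicClosure F) = ζ := ha; rw [this, hζ]⟩
    · refine ⟨a, ?_⟩
      have h1 : (((t a)⁻¹ : (AlgebraicClosure F)ˣ) : AlgebraicClosure F) = ζ := ha
      have h2 : ((t a)⁻¹) ^ 4 = 1 := by
        apply Units.ext
        rw [Units.val_pow_eq_pow_val, h1, hζ, Units.val_one]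
      rw [inv_pow, inv_eq_one] at h2
      rw [← Units.val_pow_eq_pow_val, h2, Units.val_one]
  -- move to the first coordinate
  set σ : Equiv.Perm (Fin (r + 1)) := Equiv.swap 0 j with hσ
  have hgt2 : x' = (g * (pm _ σ)⁻¹) * ts (fun i => t (σ i)) * (g * (pm _ σ)⁻¹)⁻¹ := by
    have h1 : (pm (AlgebraicClosure F) σ)⁻¹ * ts (fun i => t (σ i)) * pm (AlgebraicClosure F) σ = ts t := by
      rw [mul_assoc, ← pm_ts, inv_mul_cancel_left]
    rw [_root_.mul_inv_rev, inv_inv, hgt]
    nth_rewrite 1 [← h1]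
    simp only [mul_assoc]
  refine exists_fix_of_sum hp hF x (fun n hn he => ?_) V ρ hcen
  have hR : ((orderOf x : ℕ) : AlgebraicClosure F) ≠ 0 := by
    intro h
    rw [CharP.cast_eq_zero_iff (AlgebraicClosure F) p] at h
    exact ((hpp.coprime_iff_not_dvd).1 hx.symm) h
  refine sum_ne_zero_of_four hp hn (even_AA n he) hR _ _ hgt2 ?_
  show ((t (σ 0) : (AlgebraicClosure F)ˣ) : AlgebraicClosure F) ^ 4 = 1
  rw [hσ, Equiv.swap_apply_left, hj]

/-- an eigenvector over the algebraic closure -/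
theorem exists_eigen {ι : Type*} [Fintype ι] [DecidableEq ι] {k : Type*} [Field k] [IsAlgClosed k] (A : Matrix ι ι k)
    {v : ι → k} (hv : v ≠ 0) (h : (A ^ 4) *ᵥ v = v) :
    ∃ (ζ : k) (w : ι → k), ζ ^ 4 = 1 ∧ w ≠ 0 ∧ A *ᵥ w = ζ • w := by
  -- `A` acts on the nonzero kernel of `A ^ 4 - 1`
  let N : Submodule k (ι → k) := LinearMap.ker ((Matrix.toLin' (A ^ 4)) - LinearMap.id)
  have hmem : ∀ w, w ∈ N ↔ (A ^ 4) *ᵥ w = w := by
    intro w
    rw [LinearMap.mem_ker, LinearMap.sub_apply, Matrix.toLin'_apply, LinearMap.id_apply, sub_eq_zero]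
  have hA : ∀ w ∈ N, (Matrix.toLin' A) w ∈ N := by
    intro w hw
    rw [hmem] at hw ⊢
    rw [Matrix.toLin'_apply, Matrix.mulVec_mulVec, ← pow_succ, pow_succ', ← Matrix.mulVec_mulVec, hw]
  have hnt : Nontrivial N := ⟨⟨⟨v, (hmem v).2 h⟩, 0, fun h0 => hv (congrArg Subtype.val h0)⟩⟩
  obtain ⟨ζ, hζ⟩ := Module.End.exists_eigenvalue ((Matrix.toLin' A).restrict hA)
  obtain ⟨w, hw⟩ := hζ.exists_hasEigenvector
  have h1 : A *ᵥ w.1 = ζ • w.1 := by
    have h2 := congrArg Subtype.val hw.apply_eq_smul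
    simpa only [_root_.LinearMap.coe_restrict_apply, _root_.Matrix.toLin'_apply, _root_.SetLike.val_smul] using h2
  have hw0 : w.1 ≠ 0 := fun h0 => hw.2 (Subtype.ext h0)
  refine ⟨ζ, w.1, ?_, hw0, h1⟩
  have h3 := (hmem w.1).1 w.2
  have h4 : (A ^ 4) *ᵥ w.1 = ζ ^ 4 • w.1 := by
    have e : A ^ 4 = A * (A * (A * A)) := by rw [pow_succ', pow_succ', pow_succ', pow_one]
    rw [e, ← Matrix.mulVec_mulVec, ← Matrix.mulVec_mulVec, ← Matrix.mulVec_mulVec, h1, Matrix.mulVec_smul, h1,
      smul_smul, Matrix.mulVec_smul, h1, smul_smul, Matrix.mulVec_smul, h1, smul_smul]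
    congr 1
    ring
  rw [h3] at h4
  have h5 : (ζ ^ 4 - 1) • w.1 = 0 := by rw [sub_smul, one_smul, ← h4, sub_self]
  rcases smul_eq_zero.1 h5 with h6 | h6
  · exact sub_eq_zero.1 h6
  · exact absurd h6 hw0

/-- the same with a condition over `F` : `x ^ 4` fixes a nonzero vector of the natural module -/
theorem exists_fix_four [CharP F p] (hp2 : p ≠ 2) (x : SG m F) (hx : (orderOf x).Coprime p)
    {v : Fin m ⊕ Fin m → F} (hv : v ≠ 0) (hxv : (x.1 ^ 4) *ᵥ v = v)
    (V : Type u) [AddCommGroup V] [Module (ZMod p) V] [Finite V]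
    [Nontrivial V] (ρ : SG m F →* (V ≃ₗ[ZMod p] V)) (hcen : ρ (ts fun _ => (-1 : Fˣ)) = 1) :
    ∃ w : V, w ≠ 0 ∧ ρ x w = w := by
  set φ := algebraMap F (AlgebraicClosure F) with hφ
  obtain ⟨ζ, w, h1, h2, h3⟩ := exists_eigen (x.1.map φ) (v := fun a => φ (v a))
    (fun h0 => hv (_root_.funext fun a => φ.injective (by
      rw [Pi.zero_apply, map_zero]; exact congrFun h0 a))) (by
      have h4 : (x.1.map φ) ^ 4 = (x.1 ^ 4).map φ := by
        have := (map_pow (RingHom.mapMatrix φ) x.1 4).symm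
        exact this
      rw [h4]
      funext a
      have h5 := congrArg φ (congrFun hxv a)
      rw [← h5]
      simp only [Matrix.mulVec, dotProduct, map_sum, map_mul, Matrix.map_apply])
  exact exists_fix hp2 x hx h1 h2 h3 V ρ hcen

/-- `PSp_{2m}(q)` -/
theorem fixAll_PSp [CharP F p] (hp2 : p ≠ 2) (x : SG m F) (hx : (orderOf x).Coprime p)
    {v : Fin m ⊕ Fin m → F} (hv : v ≠ 0) (hxv : (x.1 ^ 4) *ᵥ v = v) :
    H425.KFix.FixAll.{u} p (QuotientGroup.mk x : Cfsg.PSp m F) := by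
  intro V _ _ _ _ ρ
  exact exists_fix_four hp2 x hx hv hxv V
    (ρ.comp (QuotientGroup.mk' (Subgroup.center (Matrix.symplecticGroup (Fin m) F)))) (by
      rw [MonoidHom.comp_apply]
      have : QuotientGroup.mk' (Subgroup.center (Matrix.symplecticGroup (Fin m) F)) (ts fun _ => (-1 : Fˣ)) = 1 :=
        (QuotientGroup.eq_one_iff _).2 ts_neg_one_mem_center
      rw [this, map_one])

end final

/-- the linear representation -/
def linRep {p : ℕ} {L : Type v} [Group L] (W : Type u) [AddCommGroup W] [Module (ZMod p) W] (φ : L →* AddMonoid.End W) :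
    L →* (W ≃ₗ[ZMod p] W) where
  toFun := fun g =>
    { toFun := fun w => φ g w
      map_add' := fun a b => map_add (φ g) a b
      map_smul' := fun c w => ZMod.map_smul (φ g) c w
      invFun := fun w => φ g⁻¹ w
      left_inv := fun w => by
        have h1 : (φ g⁻¹ * φ g) w = w := by rw [← map_mul, inv_mul_cancel, map_one]; rfl
        exact h1
      right_inv := fun w => by
        have h1 : (φ g * φ g⁻¹) w = w := by rw [← map_mul, mul_inv_cancel, map_one]; rfl
        exact h1 }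
  map_one' := by
    apply LinearEquiv.ext
    intro w
    change φ 1 w = w
    rw [map_one]; rfl
  map_mul' := fun g g' => by
    apply LinearEquiv.ext
    intro w
    change φ (g * g') w = φ g (φ g' w)
    rw [map_mul]; rfl

theorem sum_of_fixAll_aux {p : ℕ} [Fact p.Prime] {L : Type v} [Group L] {x : L} (h : H425.KFix.FixAll.{u} p x)
    (hx : (orderOf x).Coprime p) (W : Type u) [AddCommGroup W] [Module (ZMod p) W] [Finite W] [Nontrivial W]
    (hW : ∀ w : W, p • w = 0) (φ : L →* AddMonoid.End W) : ∃ w : W, ∑ i ∈ range (orderOf x), φ (x ^ i) w ≠ 0 := by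
  obtain ⟨w, hw0, hw⟩ := h W (linRep W φ)
  have hw' : φ x w = w := hw
  refine ⟨w, ?_⟩
  have hpow : ∀ i, φ (x ^ i) w = w := by
    intro i
    induction i with
    | zero => rw [pow_zero, map_one]; rfl
    | succ i ih =>
      rw [pow_succ, map_mul]
      show φ (x ^ i) (φ x w) = w
      rw [hw', ih]
  rw [Finset.sum_congr rfl fun i _ => hpow i, Finset.sum_const, Finset.card_range]
  intro h0
  apply hw0
  have h1 : addOrderOf w ∣ orderOf x := addOrderOf_dvd_iff_nsmul_eq_zero.2 h0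
  have h2 : addOrderOf w ∣ p := addOrderOf_dvd_iff_nsmul_eq_zero.2 (hW w)
  have h3 := Nat.dvd_gcd h1 h2
  rw [hx] at h3
  exact AddMonoid.addOrderOf_eq_one_iff.1 (Nat.dvd_one.1 h3)

/-- from `FixAll` to the form used in `Hit` -/
theorem sum_of_fixAll {p : ℕ} [Fact p.Prime] {L : Type v} [Group L] {x : L} (h : H425.KFix.FixAll.{u} p x)
    (hx : (orderOf x).Coprime p) (W : Type u) [AddCommGroup W] [Finite W] [Nontrivial W] (hW : ∀ w : W, p • w = 0)
    (φ : L →* AddMonoid.End W) : ∃ w : W, ∑ i ∈ range (orderOf x), φ (x ^ i) w ≠ 0 := by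
  let _ : Module (ZMod p) W := AddCommGroup.zmodModule hW
  exact sum_of_fixAll_aux h hx W hW φ

/-- **own characteristic, `PSp_{2m}(q)`** : the form for `Hit` -/
theorem hit_PSp {p : ℕ} [Fact p.Prime] (hp2 : p ≠ 2) {m : ℕ} {F : Type v} [Field F] [Fintype F] [CharP F p]
    (x : SG m F) (hx : (orderOf x).Coprime p) {v : Fin m ⊕ Fin m → F} (hv : v ≠ 0) (hxv : (x.1 ^ 4) *ᵥ v = v)
    (hord : ∀ y : Cfsg.PSp m F, orderOf y ≠ p * orderOf (QuotientGroup.mk x : Cfsg.PSp m F)) :
    H373.CV.Hit.{u, v} p (Cfsg.PSp m F) := by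
  intro W _ _ _ hW φ
  have h1 : (orderOf (QuotientGroup.mk x : Cfsg.PSp m F)).Coprime p :=
    Nat.Coprime.coprime_dvd_left (orderOf_map_dvd (QuotientGroup.mk' (Subgroup.center (Matrix.symplecticGroup (Fin m) F))) x) hx
  obtain ⟨w, hw⟩ := sum_of_fixAll (fixAll_PSp hp2 x hx hv hxv) h1 W hW φ
  exact ⟨QuotientGroup.mk x, w, hw, hord⟩

end Cfsg.Agent.H992.CC
end

-- part: H564/TD/Own
section
prune_inst 0x40400900000000000016900020440400019000600001a1e0004008014320890221010c801010100a92801001000000100090000000000400300000020120900a520413100c04040001800084000000000000000000000000000000000004000000000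
set_option linter.all false
open scoped Cfsg.Agent.FastGrp

/-!
# `³D₄(q)`, `q` odd, in its own characteristic (helper564, S3442)

* `exists_g2` : `G₂(q)` is a subgroup of `³D₄(q)`;
* `own_td4` : an element of order `q ^ 2 - 1` with a nonzero fixed vector in every nonzero finite module in
  characteristic `p`; `p (q ^ 2 - 1)` is not an element order;
* `hit_own` : `Hit p ³D₄(q)`.
-/

set_option autoImplicit false
set_option linter.unusedSectionVars false

namespace Cfsg.Agent.H564.TD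

open Cfsg Cfsg.Lie
open Cfsg.Agent.ChevalleyStructure

universe u v

/-- **`G₂(q)` is a subgroup of `³D₄(q)`** -/
theorem exists_g2 {K : Type v} [Field K] [Fintype K] {q : ℕ} (hq : IsPrimePow q) (hK : Fintype.card K = q ^ 3) :
    ∃ (k : Subfield K) (f : ↥(chevG2.group ↥k) →* ↥(twistedD4 K q)), Nat.card ↥k = q ∧ Function.Injective f := by
  have : Finite K := inferInstance
  obtain ⟨φ, hφ⟩ : ∃ φ : K →+* K, ∀ x, φ x = x ^ q := by
    obtain ⟨p, n, hp, hn, rfl⟩ := id hq
    have hp' : p.Prime := hp.nat_prime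
    have : Fact p.Prime := ⟨hp'⟩
    have hc : CharP K p := by
      obtain ⟨p', hp''⟩ := CharP.exists K
      have h1 := CharP.char_is_prime K p'
      have : Fact p'.Prime := ⟨h1⟩
      obtain ⟨m, h2, h3⟩ := FiniteField.card K p'
      rw [hK] at h3
      have h4 : p ∣ p' ^ (m : ℕ) := by
        rw [← h3]
        exact (dvd_pow_self p hn.ne').trans (dvd_pow_self _ three_ne_zero)
      rw [(Nat.prime_dvd_prime_iff_eq hp' h1).1 (hp'.dvd_of_dvd_pow h4)]
      exact hp''
    exact ⟨iterateFrobenius K p n, fun x => iterateFrobenius_def p n x⟩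
  let S : Set (K →+* K) := {RingHom.id K, φ}
  have hid : RingHom.id K ∈ S := Or.inl rfl
  have hmem : ∀ t, t ∈ CpAutTri.Gen.kF S ↔ φ t = t := by
    intro t
    rw [CpAutTri.Gen.mem_kF]
    constructor
    · intro h
      exact h φ (Or.inr rfl)
    · rintro h ψ (rfl | hψ)
      · rfl
      · rw [Set.mem_singleton_iff.1 hψ]
        exact h
  have hle : CpAutTri.Nor.DS S ≤ twistedD4 K q := CpAutTri.TwD.DS_le_tw hφ (Or.inr rfl)
  obtain ⟨e⟩ := CpAutTri.Hom.equivG2 (S := S) hid (by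
    intro g hg h
    have hf : g ∈ D4Fixed.fix (RingHom.id K) := CpAutTri.Hom.DS_le_fix hid hg
    refine H207.TriFix.rho3_inj (CpAutTri.Nor.DS_le_G _ hg) hf ?_
    apply Units.ext
    rw [CpAutTri.Hom.coe_rho3]
    show CpAutTri.Iota.J K * ((g : Matrix chevD4.Idx chevD4.Idx K) * CpAutTri.Iota.I K) = 1
    rw [h, CpAutTri.Iota.J_mul_I])
  refine ⟨CpAutTri.Gen.kF S, (Subgroup.inclusion hle).comp e.symm.toMonoidHom, ?_,
    (Subgroup.inclusion_injective hle).comp e.symm.injective⟩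
  rw [← D4U.card_fix_field hq.one_lt hK hφ]
  exact Nat.card_congr (Equiv.subtypeEquivRight hmem)

/-- the divisibility -/
theorem not_dvd {q : ℕ} (hq : 3 ≤ q) : ¬ q ^ 2 - 1 ∣ q ^ 3 - 1 ∧ ¬ q ^ 2 - 1 ∣ q ^ 3 + 1 := by
  obtain ⟨a, rfl⟩ : ∃ a, q = a + 3 := ⟨q - 3, by omega⟩
  have e1 : (a + 3) ^ 2 - 1 = (a + 2) * (a + 4) := by
    have : (a + 3) ^ 2 = (a + 2) * (a + 4) + 1 := by ring
    omega
  have e2 : (a + 3) ^ 3 - 1 = (a + 3) * ((a + 2) * (a + 4)) + (a + 2) := by
    have : (a + 3) ^ 3 = (a + 3) * ((a + 2) * (a + 4)) + (a + 2) + 1 := by ring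
    omega
  have e3 : (a + 3) ^ 3 + 1 = (a + 3) * ((a + 2) * (a + 4)) + (a + 4) := by ring
  rw [e1, e2, e3]
  constructor
  · intro h
    have h1 := (Nat.dvd_add_right (Dvd.intro_left (a + 3) rfl)).1 h
    have h2 := Nat.le_of_dvd (by omega) h1
    nlinarith
  · intro h
    have h1 := (Nat.dvd_add_right (Dvd.intro_left (a + 3) rfl)).1 h
    have h2 := Nat.le_of_dvd (by omega) h1
    nlinarith

/-- **own characteristic of `³D₄(q)`, `q` odd** -/
theorem own_td4 {K : Type v} [Field K] [Fintype K] {p q : ℕ} [Fact p.Prime] [CharP K p] (h2 : p ≠ 2)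
    (hq : IsPrimePow q) (hK : Fintype.card K = q ^ 3) :
    ∃ x : ↥(twistedD4 K q), (orderOf x).Coprime p ∧ H425.KFix.FixAll.{u} p x ∧
      ∀ y : ↥(twistedD4 K q), orderOf y ≠ p * orderOf x := by
  have hp : p.Prime := Fact.out
  -- `q` is a power of `p`
  obtain ⟨e, he, hqe⟩ : ∃ e, 0 < e ∧ q = p ^ e := by
    obtain ⟨p', n, hp', hn, rfl⟩ := id hq
    obtain ⟨m, h2, h3⟩ := FiniteField.card K p
    rw [hK] at h3
    have h4 : p' ∣ p ^ (m : ℕ) := by
      rw [← h3]
      exact (dvd_pow_self p' hn.ne').trans (dvd_pow_self _ three_ne_zero)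
    rw [(Nat.prime_dvd_prime_iff_eq hp'.nat_prime hp).1 (hp'.nat_prime.dvd_of_dvd_pow h4)]
    exact ⟨n, hn, rfl⟩
  have hq3 : 3 ≤ q := by
    have h3 : 3 ≤ p := by have := hp.two_le; omega
    rw [hqe]
    exact h3.trans (Nat.le_self_pow he.ne' p)
  obtain ⟨k, f, hk, hf⟩ := exists_g2 hq hK
  have hfin : Finite ↥k := inferInstance
  have hfk : Fintype ↥k := Fintype.ofFinite _
  have hck : CharP ↥k p := by
    have := (algebraMap ↥k K).injective
    exact (RingHom.charP_iff (algebraMap ↥k K) this p).2 inferInstance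
  obtain ⟨x0, hx0⟩ := H77.E4Tor.tor_G2 ↥k
  rw [hk] at hx0
  -- an element of order `q ^ 2 - 1`
  have hpos : 0 < q ^ 2 - 1 := by
    have : 3 ^ 2 ≤ q ^ 2 := Nat.pow_le_pow_left hq3 2
    omega
  have hx0' : 0 < orderOf x0 := orderOf_pos x0
  have hx1 : orderOf (x0 ^ (orderOf x0 / (q ^ 2 - 1))) = q ^ 2 - 1 := by
    have h3 : orderOf x0 / (q ^ 2 - 1) ∣ orderOf x0 := Nat.div_dvd_of_dvd hx0
    rw [orderOf_pow_of_dvd (Nat.div_pos (Nat.le_of_dvd hx0' hx0) hpos).ne' h3, Nat.div_div_self hx0 hx0'.ne']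
  set x1 := x0 ^ (orderOf x0 / (q ^ 2 - 1)) with hx1d
  have hcop : (q ^ 2 - 1).Coprime p := by
    refine ((Nat.Prime.coprime_iff_not_dvd hp).2 fun h => ?_).symm
    have h3 : p ∣ q ^ 2 := by
      rw [hqe, ← pow_mul]
      exact dvd_pow_self p (by omega)
    have h4 := (Nat.dvd_sub_iff_right (Nat.one_le_iff_ne_zero.2 (by positivity)) h3).1 h
    exact hp.one_lt.ne' (Nat.dvd_one.1 h4)
  refine ⟨f x1, ?_, ?_, ?_⟩
  · rw [orderOf_injective f hf, hx1]
    exact hcop
  · exact (H564.U.fixAll_G2 h2 x1 (by rw [hx1]; exact hcop)).map f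
  · intro y hy
    rw [orderOf_injective f hf, hx1] at hy
    obtain ⟨j, m, h3, h4, h5⟩ := H876.Six.Td.ord_td4 hp he hqe hK y
    rw [hy] at h3
    -- `j = 1`, `m = q ^ 2 - 1`
    have hnd : ¬ p ∣ q ^ 2 - 1 := fun h => (Nat.Prime.coprime_iff_not_dvd hp).1 hcop.symm h
    have hj : j = 1 := by
      rcases j with _ | _ | j
      · rw [pow_zero, one_mul] at h3
        exact absurd (h3 ▸ dvd_mul_right p _) h4
      · rfl
      · exfalso
        apply hnd
        have h6 : p * (q ^ 2 - 1) = p * (p * (p ^ j * m)) := by rw [h3]; ring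
        have h7 := Nat.eq_of_mul_eq_mul_left hp.pos h6
        rw [h7]
        exact dvd_mul_right _ _
    subst hj
    rw [pow_one] at h3
    have hm := Nat.eq_of_mul_eq_mul_left hp.pos h3
    subst hm
    obtain ⟨n1, n2⟩ := not_dvd hq3
    have d1 : q ^ 2 + q + 1 ∣ q ^ 3 - 1 := by
      obtain ⟨a, rfl⟩ : ∃ a, q = a + 1 := ⟨q - 1, by omega⟩
      refine ⟨a, ?_⟩
      have : (a + 1) ^ 3 = ((a + 1) ^ 2 + (a + 1) + 1) * a + 1 := by ring
      omega
    have d2 : q ^ 2 - q + 1 ∣ q ^ 3 + 1 := by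
      obtain ⟨a, rfl⟩ : ∃ a, q = a + 1 := ⟨q - 1, by omega⟩
      refine ⟨a + 2, ?_⟩
      have e1 : (a + 1) ^ 2 - (a + 1) + 1 = a ^ 2 + a + 1 := by
        have : (a + 1) ^ 2 = a ^ 2 + a + (a + 1) := by ring
        omega
      rw [e1]
      ring
    rcases h5 with ⟨h5, -⟩ | h5 | ⟨-, h5 | h5⟩ | h5 | h5
    · omega
    · have : 3 ^ 2 ≤ q ^ 2 := Nat.pow_le_pow_left hq3 2
      omega
    · exact n1 h5
    · exact n2 h5
    · exact n1 (h5.trans d1)
    · exact n2 (h5.trans d2)

/-- `Hit p ³D₄(q)`, `q` odd -/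
theorem hit_own {K : Type v} [Field K] [Fintype K] {p q : ℕ} [Fact p.Prime] [CharP K p] (h2 : p ≠ 2)
    (hq : IsPrimePow q) (hK : Fintype.card K = q ^ 3) : H373.CV.Hit.{u, v} p ↥(twistedD4 K q) := by
  intro W _ _ _ hW φ
  obtain ⟨x, hx, hfix, hord⟩ := own_td4.{u, v} (p := p) h2 hq hK
  obtain ⟨w, hw⟩ := H992.CC.sum_of_fixAll hfix hx W hW φ
  exact ⟨x, w, hw, hord⟩

end Cfsg.Agent.H564.TD
end
end
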